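import Groth.Agent.WeilLib.PointCount
import Groth.Agent.WeilLib.Fixed
import Groth.Agent.WeilLib.Geometry
import Groth.Agent.SGA1Q.GeomTrans
import Mathlib.AlgebraicGeometry.Morphisms.Integral
import Mathlib.AlgebraicGeometry.AlgClosed.Basic
import Mathlib.Topology.JacobsonSpace

/-!
# Fibres of the projection `X ×_k K ⟶ X` and the action of the automorphisms of `K`
-/

universe u

set_option linter.style.haveILetI false

open CategoryTheory CategoryTheory.Limits AlgebraicGeometry

namespace Groth.Agent.GalFibre75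

noncomputable section

variable {k : Type u} [Field k] {K : Type u} [Field K] [Algebra k K] {X : Scheme.{u}}
  (f : X ⟶ Spec (CommRingCat.of k))


theorem specMap_comp_specMap (σ : K ≃ₐ[k] K) :
    Spec.map (CommRingCat.ofHom (σ : K →+* K)) ≫ (Spec.map (CommRingCat.ofHom (algebraMap k K))) = (Spec.map (CommRingCat.ofHom (algebraMap k K))) := by
  rw [← Spec.map_comp]
  congr 1
  ext c
  exact σ.commutes c

theorem surjective_fst : Surjective (pullback.fst f (Spec.map (CommRingCat.ofHom (algebraMap k K)))) := by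
  haveI : Surjective (Spec.map (CommRingCat.ofHom (algebraMap k K))) := ⟨fun x => ⟨IsLocalRing.closedPoint K,
    (inferInstance : Subsingleton ↥(Spec (CommRingCat.of k))).allEq _ _⟩⟩
  infer_instance

theorem isClosedMap_fst [Algebra.IsAlgebraic k K] : IsClosedMap (pullback.fst f (Spec.map (CommRingCat.ofHom (algebraMap k K)))) := by
  haveI : IsIntegralHom (Spec.map (CommRingCat.ofHom (algebraMap k K))) := IsIntegralHom.SpecMap_iff.mpr
    (by exact Algebra.IsIntegral.isIntegral (R := k) (A := K))
  exact (pullback.fst f (Spec.map (CommRingCat.ofHom (algebraMap k K)))).isClosedMap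

section Orbits

variable (τ : (K ≃ₐ[k] K) → (pullback f (Spec.map (CommRingCat.ofHom (algebraMap k K))) ⟶ pullback f (Spec.map (CommRingCat.ofHom (algebraMap k K)))))
  (hτ1 : ∀ σ, τ σ ≫ pullback.fst f (Spec.map (CommRingCat.ofHom (algebraMap k K))) = pullback.fst f (Spec.map (CommRingCat.ofHom (algebraMap k K))))
  (hτ2 : ∀ σ, τ σ ≫ pullback.snd f (Spec.map (CommRingCat.ofHom (algebraMap k K))) =
    pullback.snd f (Spec.map (CommRingCat.ofHom (algebraMap k K))) ≫ Spec.map (CommRingCat.ofHom (σ : K →+* K)))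

include hτ1 in
theorem fst_tau (σ : K ≃ₐ[k] K) (x : ↑(pullback f (Spec.map (CommRingCat.ofHom (algebraMap k K))))) :
    pullback.fst f (Spec.map (CommRingCat.ofHom (algebraMap k K))) (τ σ x) = pullback.fst f (Spec.map (CommRingCat.ofHom (algebraMap k K))) x :=
  congrArg (fun m : pullback f (Spec.map (CommRingCat.ofHom (algebraMap k K))) ⟶ X => m.base x) (hτ1 σ)

include hτ1 hτ2 in
/-- Two points of `X_K` with the same image in `X` differ by an automorphism of `K`. -/
theorem exists_tau_eq [Normal k K] (x y : ↑(pullback f (Spec.map (CommRingCat.ofHom (algebraMap k K)))))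
    (h : pullback.fst f (Spec.map (CommRingCat.ofHom (algebraMap k K))) x = pullback.fst f (Spec.map (CommRingCat.ofHom (algebraMap k K))) y) : ∃ σ, τ σ x = y := by
  obtain ⟨w, hw₁, hw₂⟩ := Scheme.Pullback.exists_preimage_pullback x y h
  let W := pullback (pullback.fst f (Spec.map (CommRingCat.ofHom (algebraMap k K)))) (pullback.fst f (Spec.map (CommRingCat.ofHom (algebraMap k K))))
  let Ω := AlgebraicClosure (W.residueField w)
  let a : Spec (CommRingCat.of Ω) ⟶ W :=
    Spec.map (CommRingCat.ofHom (algebraMap (W.residueField w) Ω)) ≫ W.fromSpecResidueField w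
  have ha : a.base (IsLocalRing.closedPoint Ω) = w := Scheme.fromSpecResidueField_apply w _
  obtain ⟨jx, hjx⟩ := Spec.map_surjective (a ≫ pullback.fst _ _ ≫ pullback.snd f (Spec.map (CommRingCat.ofHom (algebraMap k K))))
  obtain ⟨jy, hjy⟩ := Spec.map_surjective (a ≫ pullback.snd _ _ ≫ pullback.snd f (Spec.map (CommRingCat.ofHom (algebraMap k K))))
  letI : Algebra k Ω := (jx.hom.comp (algebraMap k K)).toAlgebra
  have hjk : jy.hom.comp (algebraMap k K) = jx.hom.comp (algebraMap k K) := by
    have e : CommRingCat.ofHom (algebraMap k K) ≫ jy = CommRingCat.ofHom (algebraMap k K) ≫ jx := by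
      apply Spec.map_injective
      rw [Spec.map_comp, Spec.map_comp, hjx, hjy]
      simp only [Category.assoc, ← pullback.condition]
      rw [pullback.condition_assoc]
    exact congrArg CommRingCat.Hom.hom e
  let ix : K →ₐ[k] Ω := { jx.hom with commutes' := fun c => rfl }
  let iy : K →ₐ[k] Ω := { jy.hom with commutes' := fun c => RingHom.congr_fun hjk c }
  obtain ⟨σ, hσ⟩ := SGA1Q.exists_algEquiv_of_normal ix iy
  refine ⟨σ, ?_⟩
  have e : (a ≫ pullback.fst _ _) ≫ τ σ = a ≫ pullback.snd _ _ := by
    apply pullback.hom_ext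
    · simp only [Category.assoc, hτ1, pullback.condition]
    · rw [Category.assoc, hτ2, ← Category.assoc, Category.assoc a, ← hjx, ← Spec.map_comp,
        Category.assoc, ← hjy]
      exact congrArg Spec.map (CommRingCat.hom_ext (RingHom.ext fun c => hσ c))
  have := congrArg (fun m : Spec (CommRingCat.of Ω) ⟶ pullback f (Spec.map (CommRingCat.ofHom (algebraMap k K))) =>
    m.base (IsLocalRing.closedPoint Ω)) e
  change τ σ ((pullback.fst (pullback.fst f _) (pullback.fst f _)) (a.base (IsLocalRing.closedPoint Ω))) =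
    (pullback.snd (pullback.fst f _) (pullback.fst f _)) (a.base (IsLocalRing.closedPoint Ω)) at this
  rw [ha, hw₁, hw₂] at this
  exact this

include hτ1 hτ2 in
/-- The fibres of the projection are the orbits. -/
theorem fst_eq_iff [Normal k K] (x y : ↑(pullback f (Spec.map (CommRingCat.ofHom (algebraMap k K))))) :
    pullback.fst f (Spec.map (CommRingCat.ofHom (algebraMap k K))) x = pullback.fst f (Spec.map (CommRingCat.ofHom (algebraMap k K))) y ↔ ∃ σ, τ σ x = y :=
  ⟨exists_tau_eq f τ hτ1 hτ2 x y, by rintro ⟨σ, rfl⟩; exact (fst_tau f τ hτ1 σ x).symm⟩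

end Orbits

section FibrePoints

/-- Embeddings of `κ(x)` into `K` over `k`. -/
abbrev Emb (x : X) : Type u :=
  {φ : X.residueField x →+* K // φ.comp (VarDim.resHom f x) = algebraMap k K}

/-- The rational point of `X_K` given by an embedding of the residue field of a point of `X`. -/
def ofEmb (x : X) (φ : Emb f (K := K) x) : Spec (CommRingCat.of K) ⟶ pullback f (Spec.map (CommRingCat.ofHom (algebraMap k K))) :=
  pullback.lift (Spec.map (CommRingCat.ofHom φ.1) ≫ X.fromSpecResidueField x) (𝟙 _) (by
    rw [Category.id_comp, Category.assoc, WeilLib.fromSpecResidueField_comp, ← Spec.map_comp]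
    exact congrArg (fun r => Spec.map (CommRingCat.ofHom r)) φ.2)

/-- The point of `X_K` given by an embedding. -/
def embPt (x : X) (φ : Emb f (K := K) x) : ↑(pullback f (Spec.map (CommRingCat.ofHom (algebraMap k K)))) :=
  ofEmb f x φ (IsLocalRing.closedPoint K)

theorem ofEmb_fst (x : X) (φ : Emb f (K := K) x) :
    ofEmb f x φ ≫ pullback.fst f (Spec.map (CommRingCat.ofHom (algebraMap k K))) =
      Spec.map (CommRingCat.ofHom φ.1) ≫ X.fromSpecResidueField x :=
  pullback.lift_fst _ _ _

theorem ofEmb_snd (x : X) (φ : Emb f (K := K) x) : ofEmb f x φ ≫ pullback.snd f (Spec.map (CommRingCat.ofHom (algebraMap k K))) = 𝟙 _ :=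
  pullback.lift_snd _ _ _

theorem fst_embPt (x : X) (φ : Emb f (K := K) x) : pullback.fst f (Spec.map (CommRingCat.ofHom (algebraMap k K))) (embPt f x φ) = x := by
  show (ofEmb f x φ ≫ pullback.fst f (Spec.map (CommRingCat.ofHom (algebraMap k K)))).base _ = x
  rw [ofEmb_fst]
  exact Scheme.fromSpecResidueField_apply x _

/-- An embedding twisted by an automorphism. -/
def twistEmb (x : X) (φ : Emb f (K := K) x) (σ : K ≃ₐ[k] K) : Emb f (K := K) x :=
  ⟨(σ : K →+* K).comp φ.1, by
    rw [RingHom.comp_assoc, φ.2]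
    exact RingHom.ext σ.commutes⟩

variable (τ : (K ≃ₐ[k] K) → (pullback f (Spec.map (CommRingCat.ofHom (algebraMap k K))) ⟶ pullback f (Spec.map (CommRingCat.ofHom (algebraMap k K)))))
  (hτ1 : ∀ σ, τ σ ≫ pullback.fst f (Spec.map (CommRingCat.ofHom (algebraMap k K))) = pullback.fst f (Spec.map (CommRingCat.ofHom (algebraMap k K))))
  (hτ2 : ∀ σ, τ σ ≫ pullback.snd f (Spec.map (CommRingCat.ofHom (algebraMap k K))) =
    pullback.snd f (Spec.map (CommRingCat.ofHom (algebraMap k K))) ≫ Spec.map (CommRingCat.ofHom (σ : K →+* K)))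

include hτ1 hτ2 in
theorem tau_embPt (x : X) (φ : Emb f (K := K) x) (σ : K ≃ₐ[k] K) :
    τ σ (embPt f x φ) = embPt f x (twistEmb f x φ σ.symm) := by
  have e : Spec.map (CommRingCat.ofHom (σ.symm : K →+* K)) ≫ ofEmb f x φ ≫ τ σ =
      ofEmb f x (twistEmb f x φ σ.symm) := by
    apply pullback.hom_ext
    · simp only [Category.assoc, hτ1, ofEmb_fst, ← Spec.map_comp_assoc]
      rfl
    · simp only [Category.assoc, hτ2, ofEmb_snd]
      rw [reassoc_of% (ofEmb_snd f x φ), ← Spec.map_comp, ← Spec.map_id]
      congr 1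
      ext c
      exact σ.symm_apply_apply c
  have h := congrArg (fun m : Spec (CommRingCat.of K) ⟶ _ =>
    m.base (IsLocalRing.closedPoint K)) e
  have hp : ∀ p q : ↥(Spec (CommRingCat.of K)), p = q := fun p q =>
    (inferInstance : Subsingleton ↥(Spec (CommRingCat.of K))).allEq p q
  refine Eq.trans ?_ h
  show τ σ (ofEmb f x φ _) = τ σ (ofEmb f x φ _)
  exact congrArg (τ σ).base (congrArg (ofEmb f x φ).base (hp _ _))

theorem exists_galAct : ∃ τ : (K ≃ₐ[k] K) → (pullback f (Spec.map (CommRingCat.ofHom (algebraMap k K))) ⟶ pullback f (Spec.map (CommRingCat.ofHom (algebraMap k K)))),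
    (∀ σ, τ σ ≫ pullback.fst f (Spec.map (CommRingCat.ofHom (algebraMap k K))) = pullback.fst f (Spec.map (CommRingCat.ofHom (algebraMap k K)))) ∧
    ∀ σ, τ σ ≫ pullback.snd f (Spec.map (CommRingCat.ofHom (algebraMap k K))) =
      pullback.snd f (Spec.map (CommRingCat.ofHom (algebraMap k K))) ≫ Spec.map (CommRingCat.ofHom (σ : K →+* K)) :=
  ⟨fun σ => pullback.lift (pullback.fst f (Spec.map (CommRingCat.ofHom (algebraMap k K))))
    (pullback.snd f (Spec.map (CommRingCat.ofHom (algebraMap k K))) ≫ Spec.map (CommRingCat.ofHom (σ : K →+* K)))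
    (by rw [Category.assoc, specMap_comp_specMap, pullback.condition]),
    fun _ => pullback.lift_fst _ _ _, fun _ => pullback.lift_snd _ _ _⟩

variable [IsAlgClosed K] [LocallyOfFiniteType f]

theorem nonempty_emb [Algebra.IsAlgebraic k K] (x : X) (hx : IsClosed ({x} : Set X)) :
    Nonempty (Emb f (K := K) x) := by
  letI := (VarDim.resHom f x).toAlgebra
  have h0 : Algebra.trdeg k (X.residueField x) = 0 := by
    have h := VarDim.deg_eq_tdeg f x
    rw [(VarDim.closedPoint_iff_deg_eq_zero f x).1 hx] at h
    exact h.symm.trans Nat.cast_zero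
  have := trdeg_eq_zero_iff.1 h0
  let ψ : X.residueField x →ₐ[k] K := IsAlgClosed.lift
  exact ⟨⟨ψ.toRingHom, ψ.comp_algebraMap⟩⟩

theorem embPt_injective (x : X) : Function.Injective (embPt f (K := K) x) := by
  intro φ ψ h
  obtain ⟨⟨w, r⟩, hr⟩ :=
    (Scheme.SpecToEquivOfField K (Spec (CommRingCat.of K))).symm.surjective (𝟙 _)
  change Spec.map r ≫ (Spec (CommRingCat.of K)).fromSpecResidueField w = 𝟙 _ at hr
  have hw : IsLocalRing.closedPoint K = w :=
    (inferInstance : Subsingleton ↥(Spec (CommRingCat.of K))).allEq _ _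
  have e := WeilLib.fromSpecResidueField_comp_eq (ofEmb_snd f x φ) (ofEmb_snd f x ψ) w (hw ▸ h)
  have e' := congrArg (fun m => Spec.map r ≫ m ≫ pullback.fst f _) e
  simp only [← Category.assoc, hr, Category.id_comp] at e'
  rw [ofEmb_fst, ofEmb_fst, cancel_mono, Spec.map_inj] at e'
  exact Subtype.ext (congrArg CommRingCat.Hom.hom e')

theorem embPt_surjective [Normal k K] (x : X) (hx : IsClosed ({x} : Set X))
    (y : ↑(pullback f (Spec.map (CommRingCat.ofHom (algebraMap k K))))) (hy : pullback.fst f (Spec.map (CommRingCat.ofHom (algebraMap k K))) y = x) :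
    ∃ φ : Emb f (K := K) x, embPt f x φ = y := by
  obtain ⟨φ₀⟩ := nonempty_emb f (K := K) x hx
  obtain ⟨τ, h1, h2⟩ := exists_galAct f (K := K)
  obtain ⟨σ, rfl⟩ := exists_tau_eq f τ h1 h2 (embPt f x φ₀) y ((fst_embPt f x φ₀).trans hy.symm)
  exact ⟨_, (tau_embPt f τ h1 h2 x φ₀ σ).symm⟩

theorem finiteDimensional_residueField (x : X) (hx : IsClosed ({x} : Set X)) :
    letI := (VarDim.resHom f x).toAlgebra
    Module.Finite k (X.residueField x) := by
  letI := (VarDim.resHom f x).toAlgebra
  haveI : LocallyOfFiniteType (X.fromSpecResidueField x) := by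
    haveI : IsClosedImmersion (X.fromSpecResidueField x) := by
      refine IsClosedImmersion.of_isPreimmersion _ ?_
      rwa [Scheme.range_fromSpecResidueField]
    infer_instance
  have : LocallyOfFiniteType (Spec.map (CommRingCat.ofHom (VarDim.resHom f x))) := by
    rw [← WeilLib.fromSpecResidueField_comp]
    infer_instance
  have h : (VarDim.resHom f x).FiniteType :=
    (HasRingHomProperty.Spec_iff (P := @LocallyOfFiniteType)).1 this
  have : Algebra.FiniteType k (X.residueField x) := h
  exact finite_of_finite_type_of_isJacobsonRing k _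

/-- The points over a closed point are as many as the degree of the residue field. -/
theorem finite_and_card_fibre [Normal k K] [PerfectField k] (x : X) (hx : IsClosed ({x} : Set X)) :
    (pullback.fst f (Spec.map (CommRingCat.ofHom (algebraMap k K))) ⁻¹' {x}).Finite ∧
      (pullback.fst f (Spec.map (CommRingCat.ofHom (algebraMap k K))) ⁻¹' {x}).ncard = EGA4loc.residueDegree f x := by
  letI := (VarDim.resHom f x).toAlgebra
  have := finiteDimensional_residueField f x hx
  let e : Emb f (K := K) x ≃ (X.residueField x →ₐ[k] K) :=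
    { toFun := fun φ => { φ.1 with commutes' := fun c => RingHom.congr_fun φ.2 c }
      invFun := fun ψ => ⟨ψ.toRingHom, ψ.comp_algebraMap⟩
      left_inv := fun φ => rfl
      right_inv := fun ψ => rfl }
  have : Finite (Emb f (K := K) x) := Finite.of_equiv _ e.symm
  have hr : pullback.fst f (Spec.map (CommRingCat.ofHom (algebraMap k K))) ⁻¹' {x} = Set.range (embPt f (K := K) x) := by
    ext y
    refine ⟨fun hy => embPt_surjective f x hx y hy, ?_⟩
    rintro ⟨φ, rfl⟩
    exact fst_embPt f x φ
  rw [hr]
  refine ⟨Set.finite_range _, ?_⟩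
  rw [Set.ncard_range_of_injective (embPt_injective f x), Nat.card_congr e,
    WeilLib.residueDegree_eq_finrank, Nat.card_eq_fintype_card]
  exact AlgHom.card k (X.residueField x) K

theorem isClosed_of_fst_isClosed [Normal k K] [PerfectField k] (y : ↑(pullback f (Spec.map (CommRingCat.ofHom (algebraMap k K)))))
    (hy : IsClosed ({pullback.fst f (Spec.map (CommRingCat.ofHom (algebraMap k K))) y} : Set X)) : IsClosed ({y} : Set ↑(pullback f (Spec.map (CommRingCat.ofHom (algebraMap k K))))) := by
  set Z := pullback.fst f (Spec.map (CommRingCat.ofHom (algebraMap k K))) ⁻¹' {pullback.fst f (Spec.map (CommRingCat.ofHom (algebraMap k K))) y}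
  have hfin : Z.Finite := (finite_and_card_fibre f _ hy).1
  have hZ : IsClosed Z := hy.preimage (pullback.fst f (Spec.map (CommRingCat.ofHom (algebraMap k K)))).continuous
  haveI : JacobsonSpace ↑(pullback f (Spec.map (CommRingCat.ofHom (algebraMap k K)))) :=
    LocallyOfFiniteType.jacobsonSpace (pullback.snd f (Spec.map (CommRingCat.ofHom (algebraMap k K))))
  set S := Z ∩ closedPoints ↑(pullback f (Spec.map (CommRingCat.ofHom (algebraMap k K))))
  have hSfin : S.Finite := hfin.inter_of_left _
  have hS : IsClosed S := by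
    rw [← Set.biUnion_of_singleton S]
    exact hSfin.isClosed_biUnion fun s hs => hs.2
  have hcl := closure_inter_closedPoints hZ
  rw [hS.closure_eq] at hcl
  have hyS : y ∈ S := hcl.ge rfl
  exact hyS.2

end FibrePoints

end

end Groth.Agent.GalFibre75
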